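import Groth.Agent.L22.CurveDeg.Maps
import Groth.Agent.L21.RR.Sections
import Groth.Agent.L21.NormRed.Nodal
import Groth.Agent.L18.FiberStalk
import Groth.Agent.L06.RelAssSpecial
import Groth.Agent.L05.FibreDecomp.Main
import Groth.Agent.L05.InterPair.Curve
import Groth.Agent.L05.GeomMult.Components
import Groth.Agent.L05.PtSeq.Curves
import Groth.Agent.L05.MinModel.Exc
import Groth.Agent.L17.CohSections
import Groth.Prelude.Def_CurvBase

/-!
# Sections of an invertible module of degree zero on every component of the closed fibre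
-/

set_option autoImplicit false
set_option backward.isDefEq.respectTransparency false
set_option backward.isDefEq.respectTransparency.types false
set_option linter.style.haveILetI false
set_option linter.unusedSectionVars false
universe u

open CategoryTheory CategoryTheory.Limits AlgebraicGeometry TopologicalSpace Opposite

noncomputable section

namespace Groth.L05.SemiFact

open Groth.L18.Frame (IsFrame rs ro rs_rs rs_self pull pull_rs pull_smul)
open Groth.L21.RR (st oneSec)

variable {X : Scheme.{u}}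

/-- The morphism of a global section. -/
abbrev hom {L : X.Modules} (s : Γ(L, ⊤)) : Coh.structureModule X ⟶ L := Groth.L16.homOfSection L s

/-- Where a section generates. -/
theorem surjective_st_iff_mem {L : X.Modules} {W : X.Opens} {e : Γ(L, W)} (he : IsFrame L W e) (s : Γ(L, ⊤))
    {a : Γ(X, W)} (ha : a • e = rs L le_top s) (x : X) (hx : x ∈ W) :
    Function.Surjective (st (hom s) x) ↔ x ∈ X.basicOpen a := by
  rw [Groth.L21.RR.surjective_st_iff (Groth.L21.RR.bijective_germ_frame he hx) (hom s)
    (b := X.presheaf.germ W x hx a)]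
  · exact (X.mem_basicOpen a x hx).symm
  · rw [Groth.L21.RR.st_one (hom s) x hx, Groth.L21.RR.app_homOfSection_one, ← ha, Groth.L20.ModStalk.germ_smul]

theorem isOpen_surjective_st {L : X.Modules} (hL : PicF.IsInvertible L) (s : Γ(L, ⊤)) :
    IsOpen {x : X | Function.Surjective (st (hom s) x)} := by
  refine isOpen_iff_forall_mem_open.2 fun x hx => ?_
  obtain ⟨W, e, hxW, he⟩ := Groth.L18.Frame.exists_frame hL x
  obtain ⟨a, ha⟩ := he.exists_coeff le_rfl (rs L le_top s)
  rw [rs_self] at ha
  refine ⟨X.basicOpen a, fun y hy => (surjective_st_iff_mem he s ha y (X.basicOpen_le a hy)).2 hy,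
    (X.basicOpen a).2, (surjective_st_iff_mem he s ha x hxW).1 hx⟩

/-- On an integral proper curve a section of a module of degree zero generates everywhere or nowhere. -/
theorem dichotomy (k : Type u) [Field k] {Y : Scheme.{u}} [Y.Over (Spec (CommRingCat.of k))]
    [IsProper (Y ↘ Spec (CommRingCat.of k))] [IsIntegral Y] (hd : topologicalKrullDim Y = 1) {M : Y.Modules}
    (hM : PicF.IsInvertible M) (hdeg : ArSurf.curveDeg k Y M = 0) (t : Γ(M, ⊤)) :
    (∀ y, Function.Surjective (st (hom t) y)) ∨ ∀ y, ¬ Function.Surjective (st (hom t) y) := by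
  by_cases ht : hom t = 0
  · refine Or.inr fun y hy => ?_
    obtain ⟨e, he⟩ := Groth.L21.RR.exists_frame_stalk hM y
    obtain ⟨v, hv⟩ := hy e
    have h1 : e = 0 := by
      rw [← hv, ht]
      show ((Groth.L00.Stk.F Y y).map (0 : Coh.structureModule Y ⟶ M)).hom v = 0
      rw [Functor.map_zero]
      rfl
    have h2 : (1 : Y.presheaf.stalk y) • e = (0 : Y.presheaf.stalk y) • e := by rw [h1, smul_zero, smul_zero]
    exact one_ne_zero (he.1 h2)
  · left
    obtain ⟨h1, h2⟩ := Groth.L22.CurveDeg.deg_add k hd.le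
      (Groth.L18.Ample.isInvertible_structureModule Y) hM ht
    have h0 : Curv2.deg k Y M 1 = 0 := by
      rw [← hdeg, Groth.L05.InterPair.curveDeg_eq_euler k hd, Curv2.deg]
      simp
    rw [h0, Groth.L22.CurveDeg.deg_structure] at h1
    haveI := h2 (by omega)
    exact fun y => (Groth.L21.Mod.epi_iff_stalk_surjective (hom t)).1 inferInstance y

/-- Generating is compatible with pullback. -/
theorem surjective_st_pull {Y : Scheme.{u}} (j : Y ⟶ X) {L : X.Modules} (hL : PicF.IsInvertible L) (s : Γ(L, ⊤))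
    (y : Y) :
    Function.Surjective (st (hom (show Γ((Scheme.Modules.pullback j).obj L, ⊤) from pull j L ⊤ s)) y) ↔
      Function.Surjective (st (hom s) (j y)) := by
  obtain ⟨W, e, hyW, he⟩ := Groth.L18.Frame.exists_frame hL (j y)
  obtain ⟨a, ha⟩ := he.exists_coeff le_rfl (rs L le_top s)
  rw [rs_self] at ha
  have ha' : j.app W a • pull j L W e =
      rs ((Scheme.Modules.pullback j).obj L) le_top (show Γ((Scheme.Modules.pullback j).obj L, ⊤) from pull j L ⊤ s) := by
    rw [← pull_smul, ha]
    exact (pull_rs j L le_top s).symm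
  rw [surjective_st_iff_mem (he.pullback j L) _ ha' y hyW, surjective_st_iff_mem he s ha _ hyW,
    ← Scheme.preimage_basicOpen]
  rfl

section Model

variable {R : Type u} [CommRing R] [IsDomain R] [IsDiscreteValuationRing R] (f : X ⟶ Spec (CommRingCat.of R))

local notation "s₀" => IsLocalRing.closedPoint R

/-- The structure map of a local ring. -/
def sh (x : X) : R →+* X.presheaf.stalk x := Models.stalkHom R (Over.mk f) x

theorem flat_germ_spec (R : Type u) [CommRing R] (p : Spec (CommRingCat.of R)) :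
    ((Scheme.ΓSpecIso (CommRingCat.of R)).inv ≫
      (Spec (CommRingCat.of R)).presheaf.germ ⊤ p trivial).hom.Flat := by
  rw [CommRingCat.hom_comp]
  refine RingHom.Flat.comp (RingHom.Flat.of_bijective
    (f := (Scheme.ΓSpecIso (CommRingCat.of R)).inv.hom)
    (Scheme.ΓSpecIso (CommRingCat.of R)).symm.commRingCatIsoToRingEquiv.bijective) ?_
  letI := ((Spec (CommRingCat.of R)).presheaf.germ ⊤ p trivial).hom.toAlgebra
  haveI : IsLocalization.AtPrime ((Spec (CommRingCat.of R)).presheaf.stalk p)
      ((isAffineOpen_top (Spec (CommRingCat.of R))).primeIdealOf ⟨p, trivial⟩).asIdeal :=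
    (isAffineOpen_top _).isLocalization_stalk ⟨p, trivial⟩
  exact IsLocalization.flat _
    ((isAffineOpen_top (Spec (CommRingCat.of R))).primeIdealOf ⟨p, trivial⟩).asIdeal.primeCompl

theorem isClosed_range_fiberι [IsProper f] : IsClosed (Set.range (f.fiberι s₀)) := by
  rw [Scheme.Hom.range_fiberι]
  exact (IsLocalRing.isClosed_singleton_closedPoint R).preimage f.continuous

theorem mem_range_fiberι {x : X} : x ∈ Set.range (f.fiberι s₀) ↔ x ∈ Models.specialFibreSet R (Over.mk f) := by
  rw [Scheme.Hom.range_fiberι]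
  rfl

/-- Every point of the closed fibre lies on a vertical curve. -/
theorem exists_vertComp_mem [IsProper f]
    (hd : ∀ Z ∈ irreducibleComponents (f.fiber s₀ : Type u), topologicalKrullDim Z = 1) (z : f.fiber s₀) :
    ∃ Γ : ArSurf.VertComp R (Over.mk f),
      Set.range Γ.ι.base = f.fiberι s₀ '' irreducibleComponent z := by
  let T : Set (f.fiber s₀) := irreducibleComponent z
  have hTc : IsClosed T := isClosed_irreducibleComponent
  have hemb := (f.fiberι s₀).isEmbedding
  have hcl : IsClosed ((f.fiberι s₀) '' T) :=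
    (Topology.IsClosedEmbedding.mk hemb (isClosed_range_fiberι f)).isClosedMap _ hTc
  let J : X.IdealSheafData := Scheme.IdealSheafData.vanishingIdeal ⟨_, hcl⟩
  have hJ : Set.range J.subschemeι = (f.fiberι s₀) '' T := by
    rw [Scheme.IdealSheafData.range_subschemeι, Scheme.IdealSheafData.coe_support_vanishingIdeal]
    rfl
  haveI : IsReduced J.subscheme := inferInstance
  haveI : IrreducibleSpace J.subscheme := by
    have himg : IsIrreducible ((f.fiberι s₀) '' T) :=
      isIrreducible_irreducibleComponent.image _ (f.fiberι s₀).continuous.continuousOn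
    obtain ⟨w₀, hw₀⟩ := himg.1
    obtain ⟨v₀, -⟩ := hJ.ge hw₀
    refine irreducibleSpace_def _ |>.2 ⟨⟨v₀, trivial⟩, fun u v hu hv hu' hv' => ?_⟩
    obtain ⟨u', huo, rfl⟩ := J.subschemeι.isEmbedding.isInducing.isOpen_iff.1 hu
    obtain ⟨v', hvo, rfl⟩ := J.subschemeι.isEmbedding.isInducing.isOpen_iff.1 hv
    obtain ⟨a, -, ha⟩ := hu'
    obtain ⟨b, -, hb⟩ := hv'
    obtain ⟨c, hc, hcu, hcv⟩ := himg.2 u' v' huo hvo ⟨_, hJ.le ⟨a, rfl⟩, ha⟩ ⟨_, hJ.le ⟨b, rfl⟩, hb⟩
    obtain ⟨d, rfl⟩ := hJ.ge hc
    exact ⟨d, trivial, hcu, hcv⟩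
  haveI : IsIntegral J.subscheme := isIntegral_of_irreducibleSpace_of_isReduced _
  have hdim : topologicalKrullDim J.subscheme = 1 := by
    rw [← hd T (irreducibleComponent_mem_irreducibleComponents z)]
    let e₁ := J.subschemeι.isEmbedding.toHomeomorph.trans (Homeomorph.setCongr hJ)
    let e₂ := (hemb.comp Topology.IsEmbedding.subtypeVal).toHomeomorph.trans
      (Homeomorph.setCongr (show Set.range ((f.fiberι s₀) ∘ ((↑) : T → _)) = (f.fiberι s₀) '' T by
        rw [Set.range_comp, Subtype.range_coe]))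
    exact IsHomeomorph.topologicalKrullDim_eq _ (e₁.trans e₂.symm).isHomeomorph
  obtain ⟨l, hl⟩ := Groth.L05.PtSeq.exists_lift_closed (Groth.L05.GeomMult.pt R) (J.subschemeι ≫ f) (by
    rw [Groth.L05.GeomMult.range_pt]
    rintro _ ⟨w, rfl⟩
    obtain ⟨t, -, ht⟩ := hJ.le ⟨w, rfl⟩
    have hh : f (f.fiberι s₀ t) = s₀ := (Set.ext_iff.1 (Scheme.Hom.range_fiberι f s₀) _).1 ⟨t, rfl⟩
    show (J.subschemeι ≫ f) w = s₀
    rw [Scheme.Hom.comp_apply, ← ht, hh])
  refine ⟨{ curve := Over.mk l, ι := J.subschemeι, isClosedImmersion := inferInstance,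
            isIntegral := ‹IsIntegral J.subscheme›, dim_eq := hdim, w := hl.symm }, hJ⟩

/-- The uniformiser cuts out a radical ideal in the local rings of a reduced closed fibre. -/
theorem isRadical_map_stalkHom (hred : IsReduced (f.fiber s₀)) (z : f.fiber s₀) :
    RingHom.ker ((f.fiberι s₀).stalkMap z).hom =
      (IsLocalRing.maximalIdeal R).map (sh f (f.fiberι s₀ z)) := by
  have h1 := Groth.L18.stalkMap_fiberι f s₀ z
  have hxs : f (f.fiberι s₀ z) = s₀ := (Set.ext_iff.1 (Scheme.Hom.range_fiberι f s₀) _).1 ⟨z, rfl⟩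
  have hm : (f (f.fiberι s₀ z)).asIdeal = IsLocalRing.maximalIdeal R := by rw [hxs]; rfl
  rw [h1.2, Groth.L06.RelAssSpecial.maximalIdeal_stalk_spec, Ideal.map_map, hm, ← CommRingCat.hom_comp]
  congr 1
  apply RingHom.ext
  intro c
  show (f.stalkMap _) ((Spec (CommRingCat.of R)).presheaf.germ ⊤ _ trivial ((Scheme.ΓSpecIso (CommRingCat.of R)).inv c)) =
    X.presheaf.germ ⊤ _ trivial (f.appTop ((Scheme.ΓSpecIso (CommRingCat.of R)).inv c))
  exact f.germ_stalkMap_apply ⊤ _ trivial _

/-- If a section vanishes on the whole closed fibre it is divisible by the uniformiser. -/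
theorem exists_eq_smul [Flat f] [IsProper f] (hred : IsReduced (f.fiber s₀)) {L : X.Modules}
    (hL : PicF.IsInvertible L) {ϖ : R} (hϖ : Irreducible ϖ) (s : Γ(L, ⊤))
    (hs : ∀ z : f.fiber s₀, ¬ Function.Surjective (st (hom s) (f.fiberι s₀ z))) :
    ∃ t : Γ(L, ⊤), s = (show Γ(X, ⊤) from Coh.toGlobal f ϖ) • t := by
  let b : Coh.Γtop X := Coh.toGlobal f ϖ
  let μ : L ⟶ L := (Groth.L17.CohSections.smulM b).app L
  have hμ : ∀ (V : X.Opens) (m : Γ(L, V)), μ.app V m = ro le_top (show Γ(X, ⊤) from b) • m :=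
    fun V m => Coh.smulAb_app L b (op V) m
  have hgerm : ∀ x : X, X.presheaf.germ ⊤ x trivial (show Γ(X, ⊤) from b) = sh f x ϖ :=
    fun x => rfl
  haveI : Flat (Over.mk f).hom := ‹Flat f›
  haveI : Mono μ := (Groth.L21.Mod.mono_iff_stalk_injective μ).2 fun x => by
    obtain ⟨W, e, hxW, he⟩ := Groth.L18.Frame.exists_frame hL x
    refine (injective_iff_map_eq_zero _).2 fun v hv => ?_
    obtain ⟨c, rfl⟩ := (Groth.L21.RR.bijective_germ_frame he hxW).2 v
    have h1 : st μ x (L.presheaf.germ W x hxW e) = sh f x ϖ • L.presheaf.germ W x hxW e := by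
      rw [Groth.L21.RR.st_germ, hμ, Groth.L20.ModStalk.germ_smul, ← hgerm]
      congr 1
      exact X.presheaf.germ_res_apply (homOfLE le_top) x hxW _
    change st μ x (c • L.presheaf.germ W x hxW e) = 0 at hv
    rw [map_smul, h1, smul_smul] at hv
    have h2 : c * sh f x ϖ = 0 :=
      (Groth.L21.RR.bijective_germ_frame he hxW).1 (hv.trans (zero_smul (X.presheaf.stalk x) _).symm)
    have h3 : c = 0 := by
      have hflat : (sh f x).Flat := by
        have hx := Flat.stalkMap f x
        have h := RingHom.Flat.comp (flat_germ_spec R (f x)) hx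
        convert h using 1
        apply RingHom.ext
        intro c
        exact (f.germ_stalkMap_apply ⊤ x trivial _).symm
      letI : Algebra R (X.presheaf.stalk x) := (sh f x).toAlgebra
      haveI : Module.Flat R (X.presheaf.stalk x) := hflat
      refine Module.Flat.isSMulRegular_of_nonZeroDivisors (M := X.presheaf.stalk x)
        (mem_nonZeroDivisors_of_ne_zero hϖ.ne_zero) ?_
      show ϖ • c = ϖ • (0 : X.presheaf.stalk x)
      rw [smul_zero, Algebra.smul_def, mul_comm]
      exact h2
    rw [h3]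
    show (0 : X.presheaf.stalk x) • L.presheaf.germ W x hxW e = 0
    exact zero_smul _ _
  -- the section dies in the cokernel
  have hz : hom s ≫ cokernel.π μ = 0 := Groth.L21.RR.eq_zero_of_st_one _ fun x => by
    obtain ⟨W, e, hxW, he⟩ := Groth.L18.Frame.exists_frame hL x
    obtain ⟨a, ha⟩ := he.exists_coeff le_rfl (rs L le_top s)
    rw [rs_self] at ha
    obtain ⟨c, hc⟩ : ∃ c, X.presheaf.germ W x hxW a = c * sh f x ϖ := by
      by_cases hu : IsUnit (sh f x ϖ)
      · exact ⟨X.presheaf.germ W x hxW a * ↑hu.unit⁻¹, by rw [mul_assoc, IsUnit.val_inv_mul, mul_one]⟩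
      obtain ⟨z, rfl⟩ : x ∈ Set.range (f.fiberι s₀) := (mem_range_fiberι f).2
        (Groth.L05.FibreDecomp.mem_specialFibreSet.2 fun b' hb' hb'' => hu (by
          rw [hϖ.maximalIdeal_eq, Ideal.mem_span_singleton] at hb'
          obtain ⟨d, rfl⟩ := hb'
          rw [map_mul] at hb''
          exact isUnit_of_mul_isUnit_left hb''))
      have h0 : (f.fiberι s₀).app W a = 0 := by
        haveI := hred
        refine eq_zero_of_basicOpen_eq_bot _ (Opens.ext (Set.eq_empty_iff_forall_notMem.2 fun w hw => ?_))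
        have hw' : f.fiberι s₀ w ∈ X.basicOpen a := by
          rw [← Scheme.preimage_basicOpen] at hw
          exact hw
        exact hs w ((surjective_st_iff_mem he s ha _ (X.basicOpen_le a hw')).2 hw')
      have h1 : X.presheaf.germ W (f.fiberι s₀ z) hxW a ∈ RingHom.ker ((f.fiberι s₀).stalkMap z).hom := by
        rw [RingHom.mem_ker]
        show (f.fiberι s₀).stalkMap z (X.presheaf.germ W _ hxW a) = 0
        rw [Scheme.Hom.germ_stalkMap_apply, h0, map_zero]
      rw [isRadical_map_stalkHom f hred, hϖ.maximalIdeal_eq, Ideal.map_span, Set.image_singleton,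
        Ideal.mem_span_singleton] at h1
      obtain ⟨c, hc⟩ := h1
      exact ⟨c, hc.trans (mul_comm _ _)⟩
    have h1 : st μ x (c • L.presheaf.germ W x hxW e) = L.presheaf.germ W x hxW (rs L le_top s) := by
      rw [map_smul, Groth.L21.RR.st_germ, hμ, ← ha, Groth.L20.ModStalk.germ_smul, Groth.L20.ModStalk.germ_smul,
        smul_smul, hc]
      congr 2
      exact X.presheaf.germ_res_apply (homOfLE le_top) x hxW _
    rw [show st (hom s ≫ cokernel.π μ) x (Groth.L21.RR.one X x) =
      st (cokernel.π μ) x (st (hom s) x (Groth.L21.RR.one X x)) by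
        show ((Groth.L00.Stk.F X x).map (hom s ≫ cokernel.π μ)).hom _ = _
        rw [Functor.map_comp]; rfl]
    rw [Groth.L21.RR.st_one (hom s) x hxW, Groth.L21.RR.app_homOfSection_one, ← h1]
    show ((Groth.L00.Stk.F X x).map μ ≫ (Groth.L00.Stk.F X x).map (cokernel.π μ)).hom _ = 0
    rw [← Functor.map_comp, cokernel.condition, Functor.map_zero]
    rfl
  have hex : (ShortComplex.mk μ (cokernel.π μ) (cokernel.condition μ)).Exact := ShortComplex.exact_cokernel μ
  haveI : Mono (ShortComplex.mk μ (cokernel.π μ) (cokernel.condition μ)).f := ‹Mono μ›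
  refine ⟨(hex.lift (hom s) hz).app ⊤ (oneSec X), ?_⟩
  have h := congrArg (fun φ : Coh.structureModule X ⟶ L => φ.app ⊤ (oneSec X)) (hex.lift_f (hom s) hz)
  simp only [Groth.L21.RR.app_homOfSection_one] at h
  refine h.symm.trans ((hμ ⊤ _).trans ?_)
  rw [Groth.L18.Frame.ro_self]
  rfl

end Model

end Groth.L05.SemiFact
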